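import Cfsg.Agent.SporB.Suz.G24.Check
import Cfsg.Agent.SporB.Suz.Words
import Cfsg.Agent.Lib.CosetEnum.Glue
import Cfsg.Agent.ChevGroup.Mat.OrderG2
import Cfsg.Agent.ChevGroup.Mat.Inst
import Cfsg.Agent.Lib.ChevCore.CommAll

/-!
The subgroup generated by six of the generators of `Suz` is the adjoint group of type G₂ over
the field with four elements.
-/

set_option autoImplicit false
set_option maxRecDepth 100000

namespace Cfsg.Agent.CosetEnum.Suz.G24

open He (F4)

theorem mat_inv {l : ℕ} (hl : l < 6) : mat l * mat l = 1 := by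
  have h : [l, l] ∈ H.rels := by interval_cases l <;> decide +kernel
  have h2 := wordIs_spec (List.all_eq_true.mp rels_ok _ h)
  simpa using h2

/-- A letter as an invertible matrix. -/
def gl (l : ℕ) : GL I14 F4 :=
  if h : l < 6 then ⟨mat l, mat l, mat_inv h, mat_inv h⟩ else 1

theorem coe_eval : ∀ W : List ℕ, (∀ l ∈ W, l < 6) →
    ((evalWord gl W : GL I14 F4) : Matrix I14 I14 F4) = (W.map mat).prod
  | [], _ => rfl
  | l :: ls, h => by
    rw [List.map_cons, List.prod_cons, ← coe_eval ls fun x hx => h x (List.mem_cons_of_mem _ hx)]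
    show ((gl l : GL I14 F4) : Matrix I14 I14 F4) * _ = _
    rw [gl, dif_pos (h l List.mem_cons_self)]

theorem eval_of_wordIs {W : List ℕ} {M : Matrix I14 I14 F4} (h : wordIs W M = true) :
    ((evalWord gl W : GL I14 F4) : Matrix I14 I14 F4) = M := by
  have hW : ∀ l ∈ W, l < 6 := by
    simp only [wordIs, Bool.and_eq_true, List.all_eq_true] at h
    exact fun l hl => Nat.le_of_ble_eq_true (h.1.1 l hl)
  rw [coe_eval W hW, wordIs_spec h]

/-- Letters in the product. -/
def pairVal (l : ℕ) : pres.Gp × GL I14 F4 := (pres.subVal H.sel l, gl l)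

theorem pair_rels : ∀ W ∈ H.rels, evalWord pairVal W = 1 := by
  intro W hW
  refine Prod.ext ?_ ?_
  · exact (Glue.evalWord_hom (MonoidHom.fst pres.Gp (GL I14 F4)) pairVal W).trans
      (pres.local_rels (sel := H.sel) (by decide +kernel) W hW)
  · refine (Glue.evalWord_hom (MonoidHom.snd pres.Gp (GL I14 F4)) pairVal W).trans ?_
    exact Units.ext (eval_of_wordIs (List.all_eq_true.mp rels_ok W hW))

/-- The glued subgroup. -/
def glue : Subgroup (pres.Gp × GL I14 F4) := Glue.gsub pairVal H.sel

theorem card_glue_le : Nat.card glue ≠ 0 ∧ Nat.card glue ≤ 251596800 := by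
  have b1 := Glue.relIndex_le H.cert pairVal pair_rels H.sel rfl H.inv_ok (by decide +kernel)
    (rels := H.rels) (by decide +kernel) H.rules_ok J2.sel (by decide +kernel)
  have b2 := Glue.relIndex_le J2.cert pairVal pair_rels J2.sel rfl J2.inv_ok (by decide +kernel)
    (rels := J2.rels) (by decide +kernel) J2.rules_ok B.sel (by decide +kernel)
  have b3 := Glue.relIndex_le B.cert pairVal pair_rels B.sel rfl B.inv_ok (by decide +kernel)
    (rels := B.rels) (by decide +kernel) B.rules_ok Cd.sel (by decide +kernel)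
  have b4 := Glue.relIndex_le Cd.cert pairVal pair_rels Cd.sel rfl Cd.inv_ok (by decide +kernel)
    (rels := Cd.rels) (by decide +kernel) Cd.rules_ok [] (by decide +kernel)
  have h1 : Glue.gsub pairVal [] ≤ Glue.gsub pairVal Cd.sel := Glue.gsub_mono _ (by decide)
  have h2 : Glue.gsub pairVal Cd.sel ≤ Glue.gsub pairVal B.sel := Glue.gsub_mono _ (by decide)
  have h3 : Glue.gsub pairVal B.sel ≤ Glue.gsub pairVal J2.sel := Glue.gsub_mono _ (by decide)
  have h4 : Glue.gsub pairVal J2.sel ≤ glue := Glue.gsub_mono _ (by decide)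
  have hbot : Glue.gsub pairVal [] = ⊥ := by simp [Glue.gsub]
  rw [show Nat.card glue = (Glue.gsub pairVal []).relIndex (Glue.gsub pairVal Cd.sel) *
      (Glue.gsub pairVal Cd.sel).relIndex (Glue.gsub pairVal B.sel) *
      (Glue.gsub pairVal B.sel).relIndex (Glue.gsub pairVal J2.sel) *
      (Glue.gsub pairVal J2.sel).relIndex glue by
    rw [Subgroup.relIndex_mul_relIndex _ _ _ h1 h2,
      Subgroup.relIndex_mul_relIndex _ _ _ (h1.trans h2) h3,
      Subgroup.relIndex_mul_relIndex _ _ _ ((h1.trans h2).trans h3) h4, hbot,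
      Subgroup.relIndex_bot_left]]
  refine ⟨?_, ?_⟩
  · simp only [Nat.mul_ne_zero_iff]
    exact ⟨⟨⟨b4.1, b3.1⟩, b2.1⟩, b1.1⟩
  · calc _ ≤ 16 * 135 * 280 * 416 :=
          Nat.mul_le_mul (Nat.mul_le_mul (Nat.mul_le_mul b4.2 b3.2) b2.2) b1.2
      _ = _ := by norm_num

/-- The first projection. -/
def toSuz : glue →* pres.Gp := (MonoidHom.fst pres.Gp (GL I14 F4)).comp glue.subtype

/-- The second projection. -/
def toChev : glue →* GL I14 F4 := (MonoidHom.snd pres.Gp (GL I14 F4)).comp glue.subtype

theorem toSuz_range : toSuz.range = pres.sub H.sel := by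
  rw [toSuz, MonoidHom.range_comp, Subgroup.range_subtype, glue, Glue.gsub, MonoidHom.map_closure,
    InvPres.sub]
  congr 1
  ext g
  constructor
  · rintro ⟨p, hp, rfl⟩
    obtain ⟨l, hl, rfl⟩ := List.mem_map.mp (show p ∈ H.sel.map pairVal from hp)
    have hl' : l < 6 := by
      simp only [H.sel, List.mem_cons, List.not_mem_nil, or_false] at hl
      omega
    exact ⟨l, hl', rfl⟩
  · rintro ⟨l, hl, rfl⟩
    have hl' : l ∈ H.sel := by
      have h : l < 6 := hl
      interval_cases l <;> decide
    exact ⟨pairVal l, List.mem_map_of_mem hl', rfl⟩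

theorem group_le : Cfsg.Lie.chevG2.group F4 ≤ toChev.range := by
  rw [Cfsg.Lie.ChevalleyDatum.group, Subgroup.closure_le]
  rintro g ⟨r, t, hg⟩
  have h := roots_ok
  simp only [List.all_eq_true, List.mem_ofFn, forall_exists_index, forall_apply_eq_imp_iff] at h
  have hw := h r t (by cases t <;> simp)
  have e : evalWord gl (rootWord r t) = g := Units.ext ((eval_of_wordIs hw).trans hg.symm)
  have hmem : evalWord pairVal (rootWord r t) ∈ glue := by
    refine Glue.evalWord_mem_gsub _ _ _ fun x hx => ?_
    simp only [wordIs, Bool.and_eq_true, List.all_eq_true] at hw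
    have h6 : x < 6 := Nat.le_of_ble_eq_true (hw.1.1 x hx)
    interval_cases x <;> decide
  refine ⟨⟨_, hmem⟩, ?_⟩
  rw [← e]
  exact Glue.evalWord_hom (MonoidHom.snd pres.Gp (GL I14 F4)) pairVal _

theorem card_chev : Nat.card ↥(Cfsg.Lie.chevG2.group F4) = 251596800 := by
  rw [ChevGroup.TypeG2.card_group (ChevGroup.torusFacts_of_good ChevCore.commGoodG2.toGood)
    (ChevGroup.relsOfCommGood ChevCore.commGoodG2 F4) He.F4.card_eq]
  norm_num

theorem iso : Nonempty (pres.sub H.sel ≃* ↥(Cfsg.Lie.chevG2.group F4)) := by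
  haveI : Finite glue := Nat.finite_of_card_ne_zero card_glue_le.1
  have hsub : Nat.card (pres.sub H.sel) = 251596800 := stab_eq.1 ▸ stab_card
  have hg : Nat.card glue = 251596800 := by
    refine le_antisymm card_glue_le.2 ?_
    rw [← hsub, ← toSuz_range]
    exact Nat.card_le_card_of_surjective _ toSuz.rangeRestrict_surjective
  have hr : toChev.range = Cfsg.Lie.chevG2.group F4 := by
    symm
    refine SetLike.coe_injective (Set.eq_of_subset_of_ncard_le group_le ?_ (Set.toFinite _))
    show Nat.card toChev.range ≤ Nat.card ↥(Cfsg.Lie.chevG2.group F4)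
    rw [card_chev, ← hg]
    exact Nat.card_le_card_of_surjective _ toChev.rangeRestrict_surjective
  haveI : Finite toChev.range := by rw [hr]; exact Nat.finite_of_card_ne_zero (by rw [card_chev]; norm_num)
  haveI : Finite toSuz.range := by rw [toSuz_range]; exact Nat.finite_of_card_ne_zero (by rw [hsub]; norm_num)
  have b1 : Function.Bijective toSuz.rangeRestrict :=
    toSuz.rangeRestrict_surjective.bijective_of_nat_card_le (by rw [hg, toSuz_range, hsub])
  have b2 : Function.Bijective toChev.rangeRestrict :=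
    toChev.rangeRestrict_surjective.bijective_of_nat_card_le (by rw [hg, hr, card_chev])
  exact ⟨(MulEquiv.subgroupCongr toSuz_range).symm.trans
    ((MulEquiv.ofBijective toSuz.rangeRestrict b1).symm.trans
      ((MulEquiv.ofBijective toChev.rangeRestrict b2).trans (MulEquiv.subgroupCongr hr)))⟩

end Cfsg.Agent.CosetEnum.Suz.G24
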