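import Cfsg.Agent.SporB.Suz.G24.Packed
import Cfsg.Agent.SporB.Suz.H.Data

/-!
The relators and the root elements in the packed model.
-/

set_option autoImplicit false
set_option maxRecDepth 100000

namespace Cfsg.Agent.CosetEnum.Suz.G24

open He (F4)

theorem rels_ok : H.rels.all (fun W => wordIs W 1) = true := by decide +kernel

/-- A word for a root element. -/
def rootWord (r : ℕ) (t : F4) : List ℕ :=
  ((rootWords.find? fun p => Nat.beq p.1 r && decide (p.2.1 = t)).map fun p => p.2.2).getD []

theorem roots_ok : ((List.ofFn fun r : Fin Cfsg.Lie.chevG2.nroots => r).all fun r =>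
    [F4.z, F4.e, F4.w, F4.x].all fun t =>
      wordIs (rootWord r t) (Cfsg.Lie.chevG2.xMat F4 r t)) = true := by decide +kernel

end Cfsg.Agent.CosetEnum.Suz.G24
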