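import Cfsg.Agent.SporB.Suz.G24.Data
import Cfsg.Prelude.Def_ChevG2

/-!
Packed rows over the field with four elements act as the adjoint matrices.
-/

set_option autoImplicit false
set_option maxRecDepth 100000

namespace Cfsg.Agent.CosetEnum.Suz.G24

open He (F4)

/-- The coordinate indices. -/
abbrev I14 : Type := Cfsg.Lie.chevG2.Idx

/-- The position of a coordinate. -/
def ix : I14 → ℕ
  | .inl i => (i : ℕ)
  | .inr u => 2 + (u : ℕ)

/-- A field element from two bits. -/
def ofBits : Bool → Bool → F4
  | false, false => .z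
  | true, false => .e
  | false, true => .w
  | true, true => .x

/-- The code of a field element. -/
def codeOf : F4 → ℕ
  | .z => 0
  | .e => 1
  | .w => 2
  | .x => 3

/-- A coordinate of a packed vector. -/
def dig (v j : ℕ) : F4 := ofBits (v.testBit (2 * j)) (v.testBit (2 * j + 1))

theorem ofBits_xor : ∀ a b c d : Bool, ofBits (a ^^ c) (b ^^ d) = ofBits a b + ofBits c d := by decide

theorem dig_xor (u v j : ℕ) : dig (Nat.xor u v) j = dig u j + dig v j := by
  show dig (u ^^^ v) j = _
  rw [dig, Nat.testBit_xor, Nat.testBit_xor, ofBits_xor]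
  rfl

theorem dig_zero (j : ℕ) : dig 0 j = 0 := by
  simp [dig]
  rfl

/-- The rows of a letter. -/
def rowsOf (l : ℕ) : List (List ℕ) := tabs.getD l []

/-- A multiple of a row. -/
def mult (l k c : ℕ) : ℕ := ((rowsOf l).getD k []).getD c 0

/-- The matrix of a letter. -/
def mat (l : ℕ) : Matrix I14 I14 F4 := fun i j => dig (mult l (ix i) 1) (ix j)

/-- The image of a packed vector under a letter, row by row. -/
noncomputable def vmul (l : ℕ) (v : ℕ) : ℕ → ℕ
  | 0 => 0
  | k + 1 => Nat.xor (vmul l v k) (mult l k (codeOf (dig v k)))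

/-- Run a word on a packed vector. -/
noncomputable def vrun : List ℕ → ℕ → ℕ
  | [], v => v
  | l :: ls, v => forceNat v fun v => vrun ls (forceNat (vmul l v 14) id)

theorem mult_ok : ((List.range 6).all fun l => (List.range 14).all fun k => (List.range 14).all fun j =>
    [F4.z, F4.e, F4.w, F4.x].all fun c =>
      decide (dig (mult l k (codeOf c)) j = c * dig (mult l k 1) j)) = true := by decide +kernel

theorem dig_mult {l k j : ℕ} (hl : l < 6) (hk : k < 14) (hj : j < 14) (c : F4) :
    dig (mult l k (codeOf c)) j = c * dig (mult l k 1) j := by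
  have h := mult_ok
  simp only [List.all_eq_true, List.mem_range, decide_eq_true_eq] at h
  exact h l hl k hk j hj c (by cases c <;> simp)

theorem dig_vmul {l j : ℕ} (hl : l < 6) (hj : j < 14) (v : ℕ) : ∀ n, n ≤ 14 →
    dig (vmul l v n) j = ∑ k ∈ Finset.range n, dig v k * dig (mult l k 1) j
  | 0, _ => by simp [vmul, dig_zero]
  | n + 1, hn => by
    rw [vmul, dig_xor, dig_vmul hl hj v n (by omega), Finset.sum_range_succ,
      dig_mult hl (by omega) hj]

theorem ix_lt : ∀ i : I14, ix i < 14 := by
  intro i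
  rcases i with i | i
  · have h : (i : ℕ) < 2 := i.isLt
    show (i : ℕ) < 14
    omega
  · have h : (i : ℕ) < 12 := i.isLt
    show 2 + (i : ℕ) < 14
    omega

theorem sum_ix (f : ℕ → F4) : ∑ k ∈ Finset.range 14, f k = ∑ i : I14, f (ix i) := by
  rw [Fintype.sum_sum_type]
  show _ = (∑ i : Fin 2, f (i : ℕ)) + ∑ u : Fin 12, f (2 + (u : ℕ))
  rw [Fin.sum_univ_eq_sum_range (fun k => f k) 2, Fin.sum_univ_eq_sum_range (fun k => f (2 + k)) 12,
    ← Finset.sum_range_add]

/-- The vector of a packed number. -/
def vec (v : ℕ) : I14 → F4 := fun i => dig v (ix i)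

theorem vec_vmul {l : ℕ} (hl : l < 6) (v : ℕ) :
    vec (vmul l v 14) = Matrix.vecMul (vec v) (mat l) := by
  funext j
  show dig (vmul l v 14) (ix j) = ∑ i, vec v i * mat l i j
  rw [dig_vmul hl (ix_lt j) v 14 le_rfl, sum_ix]
  rfl

theorem vec_vrun : ∀ (W : List ℕ), (∀ l ∈ W, l < 6) → ∀ v,
    vec (vrun W v) = Matrix.vecMul (vec v) (W.map mat).prod
  | [], _, v => by
    show vec v = _
    rw [List.map_nil, List.prod_nil, Matrix.vecMul_one]
  | l :: ls, h, v => by
    rw [vrun, forceNat_eq, forceNat_eq, id, vec_vrun ls (fun x hx => h x (List.mem_cons_of_mem _ hx)),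
      vec_vmul (h l List.mem_cons_self), Matrix.vecMul_vecMul, List.map_cons, List.prod_cons]

/-- A basis vector. -/
def unitVec (k : ℕ) : ℕ := 2 ^ (2 * k)

/-- Check that a word has a given matrix. -/
noncomputable def wordIs (W : List ℕ) (M : Matrix I14 I14 F4) : Bool :=
  W.all (fun l => Nat.blt l 6) && (List.ofFn fun i : Fin 2 => (Sum.inl i : I14)).all (fun i =>
    forceNat (vrun W (unitVec (ix i))) fun r => decide (∀ j, dig r (ix j) = M i j)) &&
  (List.ofFn fun i : Fin 12 => (Sum.inr i : I14)).all (fun i =>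
    forceNat (vrun W (unitVec (ix i))) fun r => decide (∀ j, dig r (ix j) = M i j))

theorem unit_ok : ((List.range 14).all fun k => (List.range 14).all fun j =>
    decide (dig (unitVec k) j = if j = k then 1 else 0)) = true := by decide +kernel

theorem ix_inj {i j : I14} (h : ix i = ix j) : i = j := by
  rcases i with i | i <;> rcases j with j | j
  · exact congrArg Sum.inl (Fin.ext h)
  · have : (i : ℕ) = 2 + (j : ℕ) := h
    have h2 : (i : ℕ) < 2 := i.isLt
    omega
  · have : 2 + (i : ℕ) = (j : ℕ) := h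
    have h2 : (j : ℕ) < 2 := j.isLt
    omega
  · have : 2 + (i : ℕ) = 2 + (j : ℕ) := h
    exact congrArg Sum.inr (Fin.ext (by omega))

theorem wordIs_spec {W : List ℕ} {M : Matrix I14 I14 F4} (h : wordIs W M = true) :
    (W.map mat).prod = M := by
  simp only [wordIs, Bool.and_eq_true, List.all_eq_true, List.mem_ofFn, forall_exists_index,
    forall_apply_eq_imp_iff, forceNat_eq, decide_eq_true_eq] at h
  have hW : ∀ l ∈ W, l < 6 := fun l hl => Nat.le_of_ble_eq_true (h.1.1 l hl)
  have hrow : ∀ i : I14, ∀ j, dig (vrun W (unitVec (ix i))) (ix j) = M i j := by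
    intro i
    rcases i with i | i
    exacts [h.1.2 _ i rfl, h.2 _ i rfl]
  ext i j
  have hu : vec (unitVec (ix i)) = Pi.single i 1 := by
    have h0 := unit_ok
    simp only [List.all_eq_true, List.mem_range, decide_eq_true_eq] at h0
    funext k
    show dig _ _ = _
    rw [h0 _ (ix_lt i) _ (ix_lt k)]
    rcases eq_or_ne k i with rfl | hne
    · rw [if_pos rfl, Pi.single_eq_same]
    · rw [if_neg (fun e => hne (ix_inj e)), Pi.single_eq_of_ne hne]
  rw [← hrow i j]
  have := congrFun (vec_vrun W hW (unitVec (ix i))) j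
  rw [hu, Matrix.single_one_vecMul] at this
  exact this.symm

end Cfsg.Agent.CosetEnum.Suz.G24
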